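import Cfsg.Agent.Classical.Symp.Decomp
import Cfsg.Agent.Known.FormSemisimple
import Mathlib

/-! Symmetric bilinear forms in characteristic two over finite fields, and their isometry groups. -/

set_option autoImplicit false
set_option linter.style.haveILetI false

open Matrix Submodule Cfsg.Lib.Classical

namespace Cfsg.Lib.SympInvol

universe u v

variable {F : Type u} [Field F] [Finite F] [CharP F 2] {V : Type v} [AddCommGroup V] [Module F V]
  [FiniteDimensional F V] {β : LinearMap.BilinForm F V}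

theorem sqrt_exists (c : F) : ∃ d : F, d * d = c := by
  obtain ⟨d, hd⟩ := FiniteField.isSquare_of_char_two (ringChar.eq F 2) c
  exact ⟨d, hd.symm⟩

omit [Finite F] in
theorem sq_inj {a b : F} (h : a * a = b * b) : a = b :=
  CharTwo.sq_injective (by simpa [sq] using h)

omit [Finite F] in
theorem orthogonal_line (x : V) (hx : β x x ≠ 0) (hs : ∀ u w, β u w = β w u) (hn : β.Nondegenerate) :
    (β.restrict (β.orthogonal (span F {x}))).Nondegenerate ∧
      Module.finrank F (β.orthogonal (span F {x})) + 1 = Module.finrank F V := by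
  have hr : β.IsRefl := fun u w h => by rw [hs]; exact h
  have hP : (β.restrict (span F {x})).Nondegenerate := by
    refine LinearMap.BilinForm.nondegenerate_restrict_of_disjoint_orthogonal β hr (Submodule.disjoint_def.2 fun y hy hy' => ?_)
    obtain ⟨c, rfl⟩ := mem_span_singleton.1 hy
    have := hy' x (mem_span_singleton_self x)
    change β x (c • x) = 0 at this
    rw [map_smul, smul_eq_mul, mul_eq_zero] at this
    rw [this.resolve_right hx, zero_smul]
  have hc := LinearMap.BilinForm.isCompl_orthogonal_of_restrict_nondegenerate hr hP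
  refine ⟨LinearMap.BilinForm.nondegenerate_restrict_of_disjoint_orthogonal β hr ?_, ?_⟩
  · refine Submodule.disjoint_def.2 fun y hy hy' => ?_
    refine hn.1 y fun z => ?_
    obtain ⟨p, hp, r, hr', rfl⟩ := mem_sup.1 (hc.sup_eq_top ▸ Submodule.mem_top : z ∈ span F {x} ⊔ β.orthogonal (span F {x}))
    rw [map_add, hs y p, hy p hp, hs y r, hy' r hr', add_zero]
  · have := Submodule.finrank_add_eq_of_isCompl hc
    rw [finrank_span_singleton (fun h => hx (by rw [h, map_zero]))] at this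
    omega

/-- A form with a nonzero diagonal value has an orthonormal basis. -/
theorem exists_orthonormal : ∀ (n : ℕ) {V : Type v} [AddCommGroup V] [Module F V] [FiniteDimensional F V]
    (β : LinearMap.BilinForm F V), (∀ u w, β u w = β w u) → β.Nondegenerate → Module.finrank F V = n →
    (0 < n → ∃ x, β x x ≠ 0) → ∃ w : Fin n → V, ∀ i j, β (w i) (w j) = if i = j then 1 else 0 := by
  intro n
  induction n with
  | zero => intro V _ _ _ β _ _ _ _; exact ⟨Fin.elim0, fun i => i.elim0⟩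
  | succ n ih =>
    intro V _ _ _ β hs hn hd hx
    obtain ⟨x, hx⟩ := hx n.succ_pos
    obtain ⟨d, hd'⟩ := sqrt_exists (β x x)
    have hd0 : d ≠ 0 := fun h => hx (by rw [← hd', h, mul_zero])
    set x₁ := d⁻¹ • x with hx₁
    have h1 : β x₁ x₁ = 1 := by
      rw [hx₁, map_smul, map_smul, LinearMap.smul_apply, smul_eq_mul, smul_eq_mul, ← hd']
      field_simp
    obtain ⟨x₂, h2, hgood⟩ : ∃ x₂ : V, β x₂ x₂ = 1 ∧ (0 < n → ∃ y ∈ β.orthogonal (span F {x₂}), β y y ≠ 0) := by
      by_cases halt : 0 < n ∧ ∀ y ∈ β.orthogonal (span F {x₁}), β y y = 0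
      · obtain ⟨hnd1, hdim⟩ := orthogonal_line x₁ (by rw [h1]; exact one_ne_zero) hs hn
        obtain ⟨e, he, he0⟩ : ∃ e ∈ β.orthogonal (span F {x₁}), e ≠ 0 := by
          refine Submodule.exists_mem_ne_zero_of_ne_bot fun h => ?_
          rw [h, finrank_bot] at hdim
          omega
        obtain ⟨f, hf, hef⟩ : ∃ f ∈ β.orthogonal (span F {x₁}), β e f ≠ 0 := by
          by_contra hcon
          push Not at hcon
          exact he0 (congrArg Subtype.val (hnd1.1 ⟨e, he⟩ fun z => hcon z z.2))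
        set f₁ := (β e f)⁻¹ • f with hf₁
        have hf₁m : f₁ ∈ β.orthogonal (span F {x₁}) := Submodule.smul_mem _ _ hf
        have hef1 : β e f₁ = 1 := by rw [hf₁, map_smul, smul_eq_mul, inv_mul_cancel₀ hef]
        have hxe : β x₁ e = 0 := he x₁ (mem_span_singleton_self _)
        have hxf : β x₁ f₁ = 0 := hf₁m x₁ (mem_span_singleton_self _)
        refine ⟨x₁ + e, ?_, fun _ => ⟨x₁ + f₁, ?_, ?_⟩⟩
        · simp [map_add, LinearMap.add_apply, h1, hxe, hs e x₁, halt.2 e he]
        · intro p hp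
          obtain ⟨c, rfl⟩ := mem_span_singleton.1 hp
          show β (c • (x₁ + e)) (x₁ + f₁) = 0
          simp [map_add, LinearMap.add_apply, h1, hxf, hef1, hs e x₁, hxe, CharTwo.add_self_eq_zero]
        · simp [map_add, LinearMap.add_apply, h1, hxf, hs f₁ x₁, halt.2 f₁ hf₁m]
      · refine ⟨x₁, h1, fun hn0 => ?_⟩
        by_contra hcon
        push Not at hcon
        exact halt ⟨hn0, hcon⟩
    obtain ⟨hnd2, hdim2⟩ := orthogonal_line x₂ (by rw [h2]; exact one_ne_zero) hs hn
    obtain ⟨w, hw⟩ := ih (β.restrict (β.orthogonal (span F {x₂}))) (fun u w => hs _ _) hnd2 (by omega) fun h0 => by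
      obtain ⟨y, hy, hyy⟩ := hgood h0
      exact ⟨⟨y, hy⟩, hyy⟩
    have ho : ∀ i, β x₂ (w i : V) = 0 := fun i => (w i).2 x₂ (mem_span_singleton_self _)
    refine ⟨Fin.cons x₂ fun i => (w i : V), fun i j => ?_⟩
    refine Fin.cases ?_ (fun i => ?_) i <;> refine Fin.cases ?_ (fun j => ?_) j
    · simp [h2]
    · simp [ho, (Fin.succ_ne_zero j).symm]
    · simp [hs _ x₂, ho, Fin.succ_ne_zero i]
    · simpa using hw i j

section Matrices

variable {s : ℕ}

/-- Congruence of matrices. -/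
def Cong (S T : Matrix (Fin s) (Fin s) F) : Prop := ∃ A : Matrix (Fin s) (Fin s) F, IsUnit A ∧ A * S * Aᵀ = T

/-- The matrices preserving a form. -/
noncomputable def isoCount (S : Matrix (Fin s) (Fin s) F) : ℕ :=
  Nat.card {A : Matrix (Fin s) (Fin s) F // A * S * Aᵀ = S}

omit [Finite F] [CharP F 2] in
theorem Cong.isoCount_eq {S T : Matrix (Fin s) (Fin s) F} (h : Cong S T) : isoCount S = isoCount T := by
  obtain ⟨A, hA, rfl⟩ := h
  obtain ⟨U, rfl⟩ := hA
  have hinv : ((U⁻¹ : (Matrix (Fin s) (Fin s) F)ˣ) : Matrix (Fin s) (Fin s) F)ᵀ *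
      (U : Matrix (Fin s) (Fin s) F)ᵀ = 1 := by rw [← transpose_mul, Units.mul_inv, transpose_one]
  have hinv' : (U : Matrix (Fin s) (Fin s) F)ᵀ *
      ((U⁻¹ : (Matrix (Fin s) (Fin s) F)ˣ) : Matrix (Fin s) (Fin s) F)ᵀ = 1 := by
    rw [← transpose_mul, Units.inv_mul, transpose_one]
  refine Nat.card_congr
    { toFun := fun X => ⟨(U : Matrix (Fin s) (Fin s) F) * X.1 * ((U⁻¹ : (Matrix (Fin s) (Fin s) F)ˣ) : Matrix (Fin s) (Fin s) F), ?_⟩
      invFun := fun Y => ⟨((U⁻¹ : (Matrix (Fin s) (Fin s) F)ˣ) : Matrix (Fin s) (Fin s) F) * Y.1 * (U : Matrix (Fin s) (Fin s) F), ?_⟩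
      left_inv := fun X => Subtype.ext (by simp [mul_assoc])
      right_inv := fun Y => Subtype.ext (by simp [mul_assoc]) }
  · rw [transpose_mul, transpose_mul]
    calc _ = (U : Matrix (Fin s) (Fin s) F) * (X.1 * S * X.1ᵀ) * (U : Matrix (Fin s) (Fin s) F)ᵀ := by
          simp only [mul_assoc, Units.inv_mul_cancel_left, ← mul_assoc ((U : Matrix (Fin s) (Fin s) F)ᵀ), hinv', one_mul]
      _ = _ := by rw [X.2]
  · rw [transpose_mul, transpose_mul]
    calc _ = ((U⁻¹ : (Matrix (Fin s) (Fin s) F)ˣ) : Matrix (Fin s) (Fin s) F) *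
          (Y.1 * ((U : Matrix (Fin s) (Fin s) F) * S * (U : Matrix (Fin s) (Fin s) F)ᵀ) * Y.1ᵀ) *
          ((U⁻¹ : (Matrix (Fin s) (Fin s) F)ˣ) : Matrix (Fin s) (Fin s) F)ᵀ := by simp only [mul_assoc]
      _ = S := by
        rw [Y.2]
        simp only [mul_assoc, Units.inv_mul_cancel_left, hinv', mul_one]

omit [Finite F] [CharP F 2] in
theorem isoCount_eq_card {S : Matrix (Fin s) (Fin s) F} (hS : IsUnit S) :
    isoCount S = Nat.card (BilinIsom (Matrix.toBilin' S)) := by
  have hsd := (Matrix.isUnit_iff_isUnit_det S).1 hS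
  have hdet : ∀ A : Matrix (Fin s) (Fin s) F, A * S * Aᵀ = S → IsUnit Aᵀ := fun A h => by
    rw [Matrix.isUnit_iff_isUnit_det]
    refine isUnit_iff_ne_zero.2 fun h0 => hsd.ne_zero ?_
    rw [← h, det_mul, h0, mul_zero]
  have key : ∀ (M : Matrix (Fin s) (Fin s) F) (x y : Fin s → F),
      Matrix.toBilin' S (M *ᵥ x) (M *ᵥ y) = Matrix.toBilin' (Mᵀ * S * M) x y := fun M x y => by
    rw [Matrix.toBilin'_apply', Matrix.toBilin'_apply', mul_assoc, ← mulVec_mulVec _ Mᵀ, dotProduct_mulVec x Mᵀ,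
      vecMul_transpose, mulVec_mulVec]
  refine Nat.card_congr (Equiv.ofBijective
    (fun A => ⟨Matrix.toLinearEquiv' A.1ᵀ (Matrix.invertibleOfIsUnitDet _ ((Matrix.isUnit_iff_isUnit_det _).1 (hdet A.1 A.2))),
      fun x y => ?_⟩) ⟨fun A B h => ?_, fun g => ?_⟩)
  · show Matrix.toBilin' S (A.1ᵀ *ᵥ x) (A.1ᵀ *ᵥ y) = _
    rw [key, transpose_transpose, A.2]
  · refine Subtype.ext (transpose_injective (Matrix.toLin'.injective (LinearMap.ext fun x => ?_)))
    exact congrArg (fun g : BilinIsom (Matrix.toBilin' S) => g.1 x) h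
  · refine ⟨⟨(LinearMap.toMatrix' (g : (Fin s → F) ≃ₗ[F] _).toLinearMap)ᵀ, ?_⟩, BilinIsom.ext' fun x => ?_⟩
    · refine Matrix.toBilin'.injective (LinearMap.ext fun x => LinearMap.ext fun y => ?_)
      rw [transpose_transpose, ← key, LinearMap.toMatrix'_mulVec, LinearMap.toMatrix'_mulVec]
      exact BilinIsom.map_form g x y
    · show (LinearMap.toMatrix' _)ᵀᵀ *ᵥ x = _
      rw [transpose_transpose, LinearMap.toMatrix'_mulVec]
      rfl

omit [Finite F] in
theorem diag_expand (S : Matrix (Fin s) (Fin s) F) (hS : Sᵀ = S) (x : Fin s → F) :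
    Matrix.toBilin' S x x = ∑ i, S i i * (x i * x i) := by
  rw [Matrix.toBilin'_apply]
  have : ∑ i, ∑ j, x i * S i j * x j = ∑ p : Fin s × Fin s, x p.1 * S p.1 p.2 * x p.2 :=
    (Fintype.sum_prod_type (fun p : Fin s × Fin s => x p.1 * S p.1 p.2 * x p.2)).symm
  rw [this, ← Finset.sum_filter_add_sum_filter_not Finset.univ (fun p : Fin s × Fin s => p.1 = p.2)]
  have h0 : ∑ p ∈ Finset.univ.filter (fun p : Fin s × Fin s => ¬ p.1 = p.2), x p.1 * S p.1 p.2 * x p.2 = 0 := by
    refine Finset.sum_involution (fun p _ => Prod.swap p) (fun p _ => ?_) (fun p hp _ h => ?_) (fun p hp => ?_)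
      (fun p _ => Prod.swap_swap p)
    · show x p.1 * S p.1 p.2 * x p.2 + x p.2 * S p.2 p.1 * x p.1 = 0
      rw [show S p.2 p.1 = S p.1 p.2 by conv_lhs => rw [← hS, transpose_apply]]
      linear_combination CharTwo.add_self_eq_zero (x p.1 * S p.1 p.2 * x p.2)
    · exact (Finset.mem_filter.1 hp).2 (congrArg Prod.fst h).symm
    · simp only [Finset.mem_filter, Finset.mem_univ, true_and, Prod.fst_swap, Prod.snd_swap]
      exact fun h => (Finset.mem_filter.1 hp).2 h.symm
  rw [h0, add_zero]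
  refine Finset.sum_bij (fun p _ => p.1) (fun _ _ => Finset.mem_univ _) (fun p hp r hr h => ?_)
    (fun i _ => ⟨(i, i), by simp, rfl⟩) (fun p hp => ?_)
  · simp only [Finset.mem_filter, Finset.mem_univ, true_and] at hp hr
    exact Prod.ext h (by rw [← hp, h, hr])
  · simp only [Finset.mem_filter, Finset.mem_univ, true_and] at hp
    rw [hp]; ring

omit [Finite F] in
theorem isAlt_iff (S : Matrix (Fin s) (Fin s) F) (hS : Sᵀ = S) :
    (Matrix.toBilin' S).IsAlt ↔ ∀ i, S i i = 0 := by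
  refine ⟨fun h i => ?_, fun h x => ?_⟩
  · have := h (Pi.single i 1)
    rwa [Matrix.toBilin'_single] at this
  · rw [diag_expand S hS]
    exact Finset.sum_eq_zero fun i _ => by rw [h, zero_mul]

omit [Finite F] [CharP F 2] in
theorem toBilin_nondeg {S : Matrix (Fin s) (Fin s) F} (hS : IsUnit S) : (Matrix.toBilin' S).Nondegenerate :=
  LinearMap.BilinForm.nondegenerate_toBilin'_iff_det_ne_zero.2 ((Matrix.isUnit_iff_isUnit_det S).1 hS).ne_zero

omit [Finite F] [CharP F 2] in
theorem cong_of_gram {S T : Matrix (Fin s) (Fin s) F} (hT : IsUnit T) (w : Fin s → (Fin s → F))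
    (hw : ∀ i j, Matrix.toBilin' S (w i) (w j) = T i j) : Cong S T := by
  have he : (Matrix.of w) * S * (Matrix.of w)ᵀ = T := by
    ext i j
    rw [← hw, Matrix.toBilin'_apply', mul_assoc]
    simp [Matrix.mul_apply, mulVec, dotProduct]
  refine ⟨Matrix.of w, ?_, he⟩
  rw [Matrix.isUnit_iff_isUnit_det]
  refine isUnit_iff_ne_zero.2 fun h0 => ((Matrix.isUnit_iff_isUnit_det T).1 hT).ne_zero ?_
  rw [← he, det_mul, det_mul, h0, zero_mul, zero_mul]

/-- Non-alternating symmetric matrices are congruent to the identity. -/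
theorem cong_one {S : Matrix (Fin s) (Fin s) F} (hS : Sᵀ = S) (hu : IsUnit S) (hd : ∃ i, S i i ≠ 0) : Cong S 1 := by
  have hsym : ∀ u w, Matrix.toBilin' S u w = Matrix.toBilin' S w u := fun u w => by
    rw [Matrix.toBilin'_apply', Matrix.toBilin'_apply', dotProduct_mulVec, ← mulVec_transpose, hS, dotProduct_comm]
  obtain ⟨w, hw⟩ := exists_orthonormal s (Matrix.toBilin' S) hsym (toBilin_nondeg hu) (by simp) fun _ => by
    obtain ⟨i, hi⟩ := hd
    exact ⟨Pi.single i 1, by rwa [Matrix.toBilin'_single]⟩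
  exact cong_of_gram isUnit_one w fun i j => by rw [hw, Matrix.one_apply]

/-- Alternating matrices of the same size are congruent. -/
theorem cong_alt {S T : Matrix (Fin s) (Fin s) F} (hS : Sᵀ = S) (hu : IsUnit S) (hd : ∀ i, S i i = 0)
    (hT : Tᵀ = T) (hu' : IsUnit T) (hd' : ∀ i, T i i = 0) : Cong S T := by
  obtain ⟨e, he⟩ := FormSemisimple.exists_isometry_alt (Matrix.toBilin' T) (Matrix.toBilin' S) ((isAlt_iff T hT).2 hd')
    (toBilin_nondeg hu') ((isAlt_iff S hS).2 hd) (toBilin_nondeg hu)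
  refine cong_of_gram hu' (fun i => e.symm (Pi.single i 1)) fun i j => ?_
  have := he (e.symm (Pi.single i 1)) (e.symm (Pi.single j 1))
  rw [LinearEquiv.apply_symm_apply, LinearEquiv.apply_symm_apply, Matrix.toBilin'_single] at this
  exact this.symm

end Matrices

end Cfsg.Lib.SympInvol
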