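import Cfsg.Agent.Known.SympInvol.IsoCount
import Cfsg.Agent.Classical.Symp.IsotropicFrames
import Mathlib

/-! Involutions of symplectic groups in characteristic two. -/

set_option autoImplicit false
set_option linter.style.haveILetI false

open Matrix Submodule Cfsg.Lib.Classical

namespace Cfsg.Lib.SympInvol

universe u v

section Abstract

variable {F : Type u} [Field F] [Finite F] [CharP F 2] {V : Type v} [AddCommGroup V] [Module F V]
  [FiniteDimensional F V] {B : LinearMap.BilinForm F V} {s : ℕ}

/-- The nilpotent map attached to a frame and a matrix. -/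
noncomputable def nil (B : LinearMap.BilinForm F V) (f : Fin s → V) (S : Matrix (Fin s) (Fin s) F) : V →ₗ[F] V :=
  ∑ i, ∑ j, S i j • (B (f j)).smulRight (f i)

omit [Finite F] [CharP F 2] [FiniteDimensional F V] in
theorem nil_apply (f : Fin s → V) (S : Matrix (Fin s) (Fin s) F) (x : V) :
    nil B f S x = ∑ i, (∑ j, S i j * B (f j) x) • f i := by
  simp [nil, LinearMap.sum_apply, Finset.sum_smul, smul_smul]

omit [Finite F] [CharP F 2] [FiniteDimensional F V] in
theorem nil_act (f : Fin s → V) (S : Matrix (Fin s) (Fin s) F) (g : BilinIsom B) (x : V) :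
    nil B (IsoFrames.act g f) S (g.1 x) = g.1 (nil B f S x) := by
  simp [nil_apply, map_sum, IsoFrames.act, BilinIsom.map_form]

omit [Finite F] [CharP F 2] [FiniteDimensional F V] in
theorem nil_change (f : Fin s → V) (S A : Matrix (Fin s) (Fin s) F) :
    nil B (fun i => ∑ k, A k i • f k) S = nil B f (A * S * Aᵀ) := by
  refine LinearMap.ext fun x => ?_
  simp only [nil_apply, map_sum, map_smul, LinearMap.sum_apply, LinearMap.smul_apply, smul_eq_mul, Finset.smul_sum,
    smul_smul, Matrix.mul_apply, Matrix.transpose_apply]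
  rw [Finset.sum_comm]
  refine Finset.sum_congr rfl fun k _ => ?_
  rw [← Finset.sum_smul]
  congr 1
  simp only [Finset.mul_sum, Finset.sum_mul]
  calc ∑ i, ∑ j, ∑ l, S i j * (A l j * B (f l) x) * A k i
      = ∑ i, ∑ l, ∑ j, A k i * S i j * A l j * B (f l) x :=
        Finset.sum_congr rfl fun i _ => Finset.sum_comm.trans
          (Finset.sum_congr rfl fun l _ => Finset.sum_congr rfl fun j _ => by ring)
    _ = _ := by rw [Finset.sum_comm]; exact Finset.sum_congr rfl fun l _ => Finset.sum_comm

omit [Finite F] [FiniteDimensional F V] in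
theorem swap_eq (hA : B.IsAlt) (x y : V) : B x y = B y x := by
  rw [← hA.neg_eq y x, CharTwo.neg_eq]

omit [Finite F] [CharP F 2] in
theorem exists_dual (hB : B.Nondegenerate) {f : Fin s → V} (hf : LinearIndependent F f) :
    ∃ x : Fin s → V, ∀ j i, B (f j) (x i) = if j = i then 1 else 0 := by
  let ev : V →ₗ[F] (Fin s → F) := LinearMap.pi fun j => B (f j)
  have hs : Function.Surjective ev := by
    rw [← LinearMap.range_eq_top]
    by_contra hne
    obtain ⟨φ, hφ0, hφ⟩ := Submodule.exists_dual_map_eq_bot_of_lt_top (lt_top_iff_ne_top.2 hne) inferInstance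
    refine hφ0 (LinearMap.pi_ext' fun j => LinearMap.ext_ring ?_)
    have h1 : ∑ j, φ (Pi.single j 1) • f j = 0 := by
      refine hB.1 _ fun x => ?_
      have h2 : φ (ev x) = 0 := by
        have : φ (ev x) ∈ (LinearMap.range ev).map φ := ⟨_, ⟨x, rfl⟩, rfl⟩
        rw [hφ] at this
        exact (Submodule.mem_bot F).1 this
      rw [← Finset.univ_sum_single (ev x), map_sum] at h2
      rw [map_sum, LinearMap.sum_apply, ← h2]
      refine Finset.sum_congr rfl fun j _ => ?_
      rw [show (Pi.single j (ev x j) : Fin s → F) = ev x j • Pi.single j 1 by rw [← Pi.single_smul', smul_eq_mul, mul_one],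
        map_smul, map_smul, LinearMap.smul_apply, smul_eq_mul, smul_eq_mul, mul_comm]
      rfl
    simpa using Fintype.linearIndependent_iff.1 hf _ h1 j
  choose x hx using hs
  exact ⟨fun i => x (Pi.single i 1), fun j i => by
    have := congrFun (hx (Pi.single i 1)) j
    simpa [ev, Pi.single_apply] using this⟩

variable (hA : B.IsAlt) (hB : B.Nondegenerate)
include hA hB

omit [Finite F] [CharP F 2] hA in
theorem nil_dual {f : Fin s → V} {x : Fin s → V} (hx : ∀ j i, B (f j) (x i) = if j = i then 1 else 0)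
    (S : Matrix (Fin s) (Fin s) F) (k : Fin s) : nil B f S (x k) = ∑ i, S i k • f i := by
  simp [nil_apply, hx]

omit [Finite F] [CharP F 2] hA in
theorem nil_injective {f : Fin s → V} (hf : LinearIndependent F f) {S T : Matrix (Fin s) (Fin s) F}
    (h : nil B f S = nil B f T) : S = T := by
  obtain ⟨x, hx⟩ := exists_dual hB hf
  ext i k
  have h1 : ∑ i, (S i k - T i k) • f i = 0 := by
    simp only [sub_smul, Finset.sum_sub_distrib, ← nil_dual hB hx, h, sub_self]
  exact sub_eq_zero.1 (Fintype.linearIndependent_iff.1 hf _ h1 i)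

omit [Finite F] [CharP F 2] hA in
theorem range_nil {f : Fin s → V} (hf : LinearIndependent F f) {S : Matrix (Fin s) (Fin s) F} (hS : IsUnit S) :
    LinearMap.range (nil B f S) = span F (Set.range f) := by
  refine le_antisymm ?_ (span_le.2 ?_)
  · rintro _ ⟨x, rfl⟩
    rw [nil_apply]
    exact sum_mem fun i _ => smul_mem _ _ (subset_span ⟨i, rfl⟩)
  · rintro _ ⟨l, rfl⟩
    obtain ⟨x, hx⟩ := exists_dual hB hf
    obtain ⟨U, rfl⟩ := hS
    refine ⟨∑ k, ((U⁻¹ : (Matrix (Fin s) (Fin s) F)ˣ) : Matrix (Fin s) (Fin s) F) k l • x k, ?_⟩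
    simp only [map_sum, map_smul, nil_dual hB hx, Finset.smul_sum, smul_smul]
    rw [Finset.sum_comm]
    simp only [← Finset.sum_smul]
    have : ∀ i, ∑ k, ((U⁻¹ : (Matrix (Fin s) (Fin s) F)ˣ) : Matrix (Fin s) (Fin s) F) k l * (U : Matrix (Fin s) (Fin s) F) i k =
        if i = l then 1 else 0 := fun i => by
      rw [← Matrix.one_apply, ← Units.mul_inv U, Matrix.mul_apply]
      exact Finset.sum_congr rfl fun k _ => mul_comm _ _
    simp only [this, ite_smul, one_smul, zero_smul, Finset.sum_ite_eq', Finset.mem_univ, if_true]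

omit [Finite F] hB [FiniteDimensional F V] in
theorem nil_form (f : Fin s → V) (S : Matrix (Fin s) (Fin s) F) (hSs : Sᵀ = S) (x y : V) :
    B (nil B f S x) y = B x (nil B f S y) := by
  simp only [nil_apply, map_sum, map_smul, LinearMap.sum_apply, LinearMap.smul_apply, smul_eq_mul, Finset.sum_mul,
    Finset.mul_sum]
  rw [Finset.sum_comm]
  refine Finset.sum_congr rfl fun j _ => Finset.sum_congr rfl fun i _ => ?_
  rw [show S i j = S j i by conv_lhs => rw [← hSs, transpose_apply], swap_eq hA x (f j)]
  ring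

omit [Finite F] hB [CharP F 2] [FiniteDimensional F V] in
theorem nil_sq {f : Fin s → V} (hf : IsoFrames.IsFrame B f) (S : Matrix (Fin s) (Fin s) F) (x : V) :
    nil B f S (nil B f S x) = 0 := by
  rw [nil_apply]
  refine Finset.sum_eq_zero fun i _ => ?_
  simp [nil_apply, map_sum, hf.2]

omit [Finite F] hB [FiniteDimensional F V] in
/-- The involution attached to a frame and a symmetric matrix. -/
theorem exists_invol {f : Fin s → V} (hf : IsoFrames.IsFrame B f) {S : Matrix (Fin s) (Fin s) F} (hSs : Sᵀ = S) :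
    ∃ g : BilinIsom B, (∀ x, g.1 x = x + nil B f S x) ∧ g ^ 2 = 1 := by
  have hinv : ∀ x, (x + nil B f S x) + nil B f S (x + nil B f S x) = x := fun x => by
    rw [map_add, nil_sq hA hf, add_zero, add_assoc, ← two_smul F (nil B f S x), CharTwo.two_eq_zero, zero_smul, add_zero]
  let e : V ≃ₗ[F] V := LinearEquiv.ofLinearMap (LinearMap.id + nil B f S) (LinearMap.id + nil B f S)
    (LinearMap.ext hinv) (LinearMap.ext hinv)
  have he : e ∈ BilinIsom B := fun x y => by
    show B (x + nil B f S x) (y + nil B f S y) = B x y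
    rw [map_add, map_add, LinearMap.add_apply, LinearMap.add_apply, nil_form hA f S hSs x y,
      nil_form hA f S hSs x (nil B f S y), nil_sq hA hf, map_zero, add_zero, add_assoc, CharTwo.add_self_eq_zero, add_zero]
  exact ⟨⟨e, he⟩, fun x => rfl, by
    rw [sq]
    exact BilinIsom.ext' fun x => hinv x⟩

omit [Finite F] in
/-- Every involution comes from a frame. -/
theorem exists_frame (g : BilinIsom B) (hg : g ^ 2 = 1) :
    ∃ (f : Fin (Module.finrank F (LinearMap.range ((g.1 : V →ₗ[F] V) - LinearMap.id))) → V)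
      (S : Matrix _ _ F), IsoFrames.IsFrame B f ∧ Sᵀ = S ∧ IsUnit S ∧ ∀ x, g.1 x = x + nil B f S x := by
  set N : V →ₗ[F] V := (g.1 : V →ₗ[F] V) - LinearMap.id with hN
  have hgg : ∀ x, g.1 (g.1 x) = x := fun x => by
    rw [← BilinIsom.mul_apply', ← sq, hg]; rfl
  have hNa : ∀ x, N x = g.1 x - x := fun x => rfl
  have hsym : ∀ x y, B (N x) y = B x (N y) := fun x y => by
    rw [hNa, hNa, map_sub, map_sub, LinearMap.sub_apply, ← BilinIsom.map_form g x (g.1 y), hgg]
  have hNN : ∀ x, N (N x) = 0 := fun x => by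
    rw [hNa, hNa, map_sub, hgg, show x - g.1 x - (g.1 x - x) = (2 : F) • (x - g.1 x) by rw [two_smul]; abel,
      CharTwo.two_eq_zero, zero_smul]
  let b := Module.finBasis F (LinearMap.range N)
  set f : Fin (Module.finrank F (LinearMap.range N)) → V := fun i => (b i : V)
  have hfr : IsoFrames.IsFrame B f := by
    refine ⟨b.linearIndependent.map' (LinearMap.range N).subtype (Submodule.ker_subtype _), fun i j => ?_⟩
    obtain ⟨x, hx⟩ := (b i).2
    obtain ⟨y, hy⟩ := (b j).2
    show B (b i : V) (b j : V) = 0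
    rw [← hx, ← hy, hsym, hNN, map_zero]
  obtain ⟨d, hd⟩ := exists_dual hB hfr.1
  let S : Matrix _ _ F := Matrix.of fun i k => B (N (d k)) (d i)
  have hspan : span F (Set.range f) = LinearMap.range N := by
    rw [show Set.range f = (LinearMap.range N).subtype '' Set.range b from Set.range_comp (LinearMap.range N).subtype b,
      ← map_span, b.span_eq, Submodule.map_top, range_subtype]
  have hcoef : ∀ v ∈ LinearMap.range N, v = ∑ i, B v (d i) • f i := fun v hv => by
    obtain ⟨c, rfl⟩ := (mem_span_range_iff_exists_fun F).1 (hspan ▸ hv)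
    simp [map_sum, hd]
  have hker : ∀ z, (∀ i, B (f i) z = 0) → N z = 0 := fun z hz => by
    refine hB.1 _ fun y => ?_
    rw [hsym, swap_eq hA]
    have : ∀ v ∈ span F (Set.range f), B v z = 0 := fun v hv => by
      induction hv using span_induction with
      | mem v hv => obtain ⟨i, rfl⟩ := hv; exact hz i
      | zero => simp
      | add v w _ _ h1 h2 => rw [map_add, LinearMap.add_apply, h1, h2, add_zero]
      | smul c v _ h1 => rw [map_smul, LinearMap.smul_apply, h1, smul_zero]
    exact this _ (by rw [hspan]; exact LinearMap.mem_range_self N y)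
  have hNS : ∀ x, N x = nil B f S x := fun x => by
    have h0 := hker (x - ∑ k, B (f k) x • d k) fun i => by simp [map_sum, hd]
    rw [map_sub, sub_eq_zero] at h0
    rw [h0, map_sum]
    conv_lhs => arg 2; ext k; rw [map_smul, hcoef (N (d k)) (LinearMap.mem_range_self N _), Finset.smul_sum]
    rw [Finset.sum_comm, nil_apply]
    refine Finset.sum_congr rfl fun i _ => ?_
    rw [Finset.sum_smul]
    exact Finset.sum_congr rfl fun k _ => by rw [smul_smul, mul_comm]; rfl
  refine ⟨f, S, hfr, ?_, ?_, fun x => ?_⟩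
  · ext i k
    show B (N (d i)) (d k) = B (N (d k)) (d i)
    rw [hsym, swap_eq hA]
  · rw [← Matrix.mulVec_surjective_iff_isUnit]
    intro c
    have : (∑ i, c i • f i) ∈ LinearMap.range N := by
      exact hspan.le (sum_mem fun i _ => smul_mem _ _ (subset_span ⟨i, rfl⟩))
    obtain ⟨x, hx⟩ := this
    rw [hNS, nil_apply] at hx
    refine ⟨fun j => B (f j) x, funext fun i => ?_⟩
    refine sub_eq_zero.1 (Fintype.linearIndependent_iff.1 hfr.1 (fun i => (S *ᵥ fun j => B (f j) x) i - c i) ?_ i)
    simp only [sub_smul, Finset.sum_sub_distrib, Matrix.mulVec, dotProduct, hx, sub_self]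
  · rw [← hNS, hNa, add_sub_cancel]

omit [Finite F] hB [FiniteDimensional F V] in
theorem form_self (f : Fin s → V) {S : Matrix (Fin s) (Fin s) F} (hSs : Sᵀ = S) (x : V) :
    B x (nil B f S x) = ∑ i, S i i * (B (f i) x * B (f i) x) := by
  rw [← diag_expand S hSs, Matrix.toBilin'_apply']
  simp only [nil_apply, map_sum, map_smul, smul_eq_mul, dotProduct, mulVec]
  exact Finset.sum_congr rfl fun i _ => by rw [swap_eq hA x (f i), mul_comm]

omit [Finite F] [CharP F 2] in
theorem card_frames_pos (k : ℕ) {f : Fin k → V} (hf : IsoFrames.IsFrame B f) :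
    2 * k ≤ Module.finrank F V := by
  have hle : span F (Set.range f) ≤ B.orthogonal (span F (Set.range f)) := fun y hy x hx => IsoFrames.frame_span hf hx hy
  have := Submodule.finrank_mono hle
  rw [LinearMap.BilinForm.finrank_orthogonal hB, finrank_span_eq_card hf.1, Fintype.card_fin] at this
  omega

omit [CharP F 2] in
/-- The centraliser of the involution of a frame. -/
theorem card_centralizer {f : Fin s → V} (hf : IsoFrames.IsFrame B f) {S : Matrix (Fin s) (Fin s) F}
    (hu : IsUnit S) {d : ℕ} (hd : Module.finrank F V = d) (g₀ : BilinIsom B) (hg₀ : ∀ x, g₀.1 x = x + nil B f S x) :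
    Nat.card (Subgroup.centralizer ({g₀} : Set (BilinIsom B))) *
        ∏ i ∈ Finset.range s, (Nat.card F ^ (d - i) - Nat.card F ^ i) = Nat.card (BilinIsom B) * isoCount S := by
  have hc : ∀ g : BilinIsom B, g ∈ Subgroup.centralizer ({g₀} : Set (BilinIsom B)) ↔
      nil B (IsoFrames.act g f) S = nil B f S := by
    intro g
    rw [Subgroup.mem_centralizer_singleton_iff]
    constructor
    · intro h
      refine LinearMap.ext fun y => ?_
      obtain ⟨x, rfl⟩ := g.1.surjective y
      rw [nil_act]
      have := congrArg (fun t : BilinIsom B => t.1 x) h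
      simp only [BilinIsom.mul_apply', hg₀, map_add] at this
      exact add_left_cancel this
    · intro h
      refine BilinIsom.ext' fun x => ?_
      simp only [BilinIsom.mul_apply', hg₀, map_add]
      rw [← nil_act, h]
  rw [Nat.card_congr (Equiv.subtypeEquivRight hc),
    IsoFrames.count_eq hA hB hd hf (fun f' => nil B f' S = nil B f S)]
  congr 1
  symm
  refine Nat.card_congr (Equiv.ofBijective (fun A : {A : Matrix (Fin s) (Fin s) F // A * S * Aᵀ = S} =>
    ⟨fun i => ∑ k, A.1 k i • f k, ⟨?_, fun i j => ?_⟩, by rw [nil_change, A.2]⟩) ⟨fun A A' h => ?_, fun z => ?_⟩)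
  · rw [Fintype.linearIndependent_iff]
    intro c hc0 i
    have hAu : IsUnit A.1 := by
      rw [Matrix.isUnit_iff_isUnit_det]
      refine isUnit_iff_ne_zero.2 fun h0 => ((Matrix.isUnit_iff_isUnit_det S).1 hu).ne_zero ?_
      rw [← A.2, det_mul, det_mul, h0, zero_mul, zero_mul]
    have h1 : ∑ k, (A.1 *ᵥ c) k • f k = 0 := by
      rw [← hc0]
      simp only [Matrix.mulVec, dotProduct, Finset.sum_smul, Finset.smul_sum, smul_smul]
      rw [Finset.sum_comm]
      exact Finset.sum_congr rfl fun a _ => Finset.sum_congr rfl fun b _ => by rw [mul_comm]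
    have h2 : A.1 *ᵥ c = A.1 *ᵥ 0 := by
      rw [mulVec_zero]; exact funext fun k => Fintype.linearIndependent_iff.1 hf.1 _ h1 k
    exact congrFun (Matrix.mulVec_injective_iff_isUnit.2 hAu h2) i
  · simp [map_sum, hf.2]
  · refine Subtype.ext (Matrix.ext fun k i => sub_eq_zero.1 (Fintype.linearIndependent_iff.1 hf.1 (fun k => A.1 k i - A'.1 k i) ?_ k))
    have := congrFun (congrArg Subtype.val h) i
    simp only at this
    simp only [sub_smul, Finset.sum_sub_distrib, this, sub_self]
  · obtain ⟨f', hf', hN⟩ := z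
    have hsp : span F (Set.range f') = span F (Set.range f) := by
      rw [← range_nil hB hf'.1 hu, ← range_nil hB hf.1 hu, hN]
    have hmem : ∀ i, ∃ c : Fin s → F, ∑ k, c k • f k = f' i := fun i =>
      (mem_span_range_iff_exists_fun F).1 (hsp ▸ subset_span ⟨i, rfl⟩)
    choose c hcf using hmem
    have hf'e : (fun i => ∑ k, (Matrix.of fun k i => c i k) k i • f k) = f' := funext hcf
    refine ⟨⟨Matrix.of fun k i => c i k, nil_injective hB hf.1 ?_⟩, Subtype.ext hf'e⟩
    rw [← nil_change, hf'e, hN]

end Abstract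

end Cfsg.Lib.SympInvol
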