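import Cfsg.Agent.Known.SympInvol.Forms
import Cfsg.Agent.Classical.Symp.Card
import Mathlib

/-! Orders of the isometry groups of symmetric forms in characteristic two. -/

set_option autoImplicit false
set_option linter.style.haveILetI false

open Matrix Submodule Cfsg.Lib.Classical

namespace Cfsg.Lib.SympInvol

universe u

variable {F : Type u} [Field F] [CharP F 2]

/-- The order of the symplectic group of rank `r` over a field of order `q`. -/
def spCard (q r : ℕ) : ℕ := q ^ (r ^ 2) * ∏ i ∈ Finset.range r, (q ^ (2 * (i + 1)) - 1)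

/-- The order of the isometry group of the identity form. -/
def oneCard (q s : ℕ) : ℕ := if Odd s then spCard q ((s - 1) / 2) else q ^ (s - 1) * spCard q ((s - 2) / 2)

variable {s : ℕ}

local notation "dot" => Matrix.toBilin' (1 : Matrix (Fin s) (Fin s) F)

theorem dot_apply (x y : Fin s → F) : dot x y = ∑ i, x i * y i := by
  rw [Matrix.toBilin'_apply', one_mulVec]; rfl

theorem dot_comm (x y : Fin s → F) : dot x y = dot y x := by
  rw [dot_apply, dot_apply]; exact Finset.sum_congr rfl fun i _ => mul_comm _ _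

theorem dot_self (x : Fin s → F) : dot x x = dot x 1 * dot x 1 := by
  rw [dot_apply, dot_apply, CharTwo.sum_mul_self]
  simp

theorem dot_refl : LinearMap.BilinForm.IsRefl dot := fun x y h => by rw [dot_comm]; exact h

theorem dot_nondeg : LinearMap.BilinForm.Nondegenerate dot := toBilin_nondeg isUnit_one

theorem fix_one (g : BilinIsom dot) : g.1 1 = 1 := by
  have h : ∀ y, dot y (g.1 1) = dot y 1 := fun y => by
    obtain ⟨x, rfl⟩ := g.1.surjective y
    rw [BilinIsom.map_form]
    apply sq_inj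
    rw [← dot_self, ← dot_self, BilinIsom.map_form]
  refine sub_eq_zero.1 (dot_nondeg.2 _ fun y => ?_)
  rw [map_sub, h, sub_self]

variable [Finite F]

theorem alt_on (P : Submodule F (Fin s → F)) (h1 : (1 : Fin s → F) ∈ P) :
    (LinearMap.BilinForm.restrict dot (LinearMap.BilinForm.orthogonal dot P)).IsAlt := fun x => by
  show dot (x : Fin s → F) (x : Fin s → F) = 0
  rw [dot_self, dot_comm, x.2 1 h1, mul_zero]

theorem card_complement (P : Submodule F (Fin s → F)) (h1 : (1 : Fin s → F) ∈ P)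
    (hP : (LinearMap.BilinForm.restrict dot P).Nondegenerate) {r : ℕ} (hr : Module.finrank F P + 2 * r = s) :
    Nat.card (pointFixer dot P) = spCard (Nat.card F) r := by
  have hc := LinearMap.BilinForm.isCompl_orthogonal_of_restrict_nondegenerate dot_refl hP
  rw [Nat.card_congr (pointFixerEquiv dot_refl P hc).toEquiv]
  refine card_bilinIsom_symplectic r (alt_on P h1) ?_ ?_
  · refine LinearMap.BilinForm.nondegenerate_restrict_of_disjoint_orthogonal _ dot_refl ?_
    rw [Submodule.disjoint_def]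
    intro y hy hy'
    refine dot_nondeg.1 y fun z => ?_
    obtain ⟨p, hp, w, hw, rfl⟩ := mem_sup.1 (hc.sup_eq_top ▸ Submodule.mem_top :
      z ∈ P ⊔ LinearMap.BilinForm.orthogonal dot P)
    rw [map_add, dot_comm y p, hy p hp, dot_comm y w, hy' w hw, add_zero]
  · have := Submodule.finrank_add_eq_of_isCompl hc
    rw [Module.finrank_fin_fun] at this
    omega

theorem card_odd (hs : Odd s) : Nat.card (BilinIsom dot) = spCard (Nat.card F) ((s - 1) / 2) := by
  obtain ⟨r, hr⟩ := hs
  have h11 : dot 1 1 = 1 := by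
    rw [dot_apply]
    simp only [Pi.one_apply, mul_one, Finset.sum_const, Finset.card_univ, Fintype.card_fin, nsmul_eq_mul, mul_one]
    rw [hr, Nat.cast_add, Nat.cast_mul, show ((2 : ℕ) : F) = 0 from CharP.cast_eq_zero F 2, zero_mul, Nat.cast_one,
      zero_add]
  have h10 : (1 : Fin s → F) ≠ 0 := fun h => one_ne_zero (congrFun h ⟨0, by omega⟩)
  have hP : (LinearMap.BilinForm.restrict dot (span F {(1 : Fin s → F)})).Nondegenerate := by
    refine LinearMap.BilinForm.nondegenerate_restrict_of_disjoint_orthogonal _ dot_refl (Submodule.disjoint_def.2 fun y hy hy' => ?_)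
    obtain ⟨c, rfl⟩ := mem_span_singleton.1 hy
    have := hy' 1 (mem_span_singleton_self _)
    change dot 1 (c • (1 : Fin s → F)) = 0 at this
    rw [map_smul, h11, smul_eq_mul, mul_one] at this
    rw [this, zero_smul]
  rw [← card_complement _ (mem_span_singleton_self _) hP (r := (s - 1) / 2) (by rw [finrank_span_singleton h10]; omega)]
  refine (Nat.card_congr (Equiv.subtypeUnivEquiv fun g p hp => ?_)).symm
  obtain ⟨c, rfl⟩ := mem_span_singleton.1 hp
  rw [map_smul, fix_one]

theorem card_even (hs : Even s) (hs0 : 0 < s) :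
    Nat.card (BilinIsom dot) = Nat.card F ^ (s - 1) * spCard (Nat.card F) ((s - 2) / 2) := by
  obtain ⟨r, hr⟩ := hs
  have h11 : dot 1 1 = 0 := by
    rw [dot_apply]
    simp only [Pi.one_apply, mul_one, Finset.sum_const, Finset.card_univ, Fintype.card_fin, nsmul_eq_mul, mul_one]
    rw [hr, Nat.cast_add, CharTwo.add_self_eq_zero]
  let O := {x : Fin s → F // dot x 1 = 1}
  have hO : ∀ x : O, dot x.1 x.1 = 1 := fun x => by rw [dot_self, x.2, mul_one]
  have hli : ∀ x : O, LinearIndependent F ![(1 : Fin s → F), x.1] := fun x => by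
    rw [LinearIndependent.pair_iff]
    intro a b hab
    have h1 := congrArg (fun z => dot z 1) hab
    simp only [map_add, map_smul, LinearMap.add_apply, LinearMap.smul_apply, h11, x.2, smul_eq_mul, mul_zero, zero_add,
      mul_one, map_zero, LinearMap.zero_apply] at h1
    have h2 := congrArg (fun z => dot z x.1) hab
    simp only [map_add, map_smul, LinearMap.add_apply, LinearMap.smul_apply, dot_comm 1 x.1, x.2, hO, smul_eq_mul,
      mul_one, map_zero, LinearMap.zero_apply, h1, add_zero] at h2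
    exact ⟨h2, h1⟩
  let P : O → Submodule F (Fin s → F) := fun x => span F (Set.range ![(1 : Fin s → F), x.1])
  have hPd : ∀ x, Module.finrank F (P x) = 2 := fun x => by
    rw [finrank_span_eq_card (hli x), Fintype.card_fin]
  have h1P : ∀ x, (1 : Fin s → F) ∈ P x := fun x => subset_span ⟨0, rfl⟩
  have hxP : ∀ x, x.1 ∈ P x := fun x => subset_span ⟨1, rfl⟩
  have hPn : ∀ x, (LinearMap.BilinForm.restrict dot (P x)).Nondegenerate := fun x => by
    refine LinearMap.BilinForm.nondegenerate_restrict_of_disjoint_orthogonal _ dot_refl (Submodule.disjoint_def.2 fun y hy hy' => ?_)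
    obtain ⟨c, rfl⟩ := (mem_span_range_iff_exists_fun F).1 hy
    have e1 := hy' _ (h1P x)
    have e2 := hy' _ (hxP x)
    change dot _ _ = 0 at e1 e2
    simp only [Fin.sum_univ_two, Matrix.cons_val_zero, Matrix.cons_val_one, map_add, map_smul, h11, smul_eq_mul,
      dot_comm 1 x.1, x.2, hO, mul_zero, mul_one, zero_add] at e1 e2
    rw [e1, add_zero] at e2
    simp [Fin.sum_univ_two, e1, e2]
  obtain ⟨x₀⟩ : Nonempty O := by
    refine ⟨⟨Pi.single ⟨0, hs0⟩ 1, ?_⟩⟩
    rw [dot_apply]
    simp [Pi.single_apply]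
  -- the group is transitive on the orbit
  have htrans : ∀ x : O, ∃ g : BilinIsom dot, g.1 x₀.1 = x.1 := by
    intro x
    have hc : ∀ y : O, IsCompl (P y) (LinearMap.BilinForm.orthogonal dot (P y)) := fun y =>
      LinearMap.BilinForm.isCompl_orthogonal_of_restrict_nondegenerate dot_refl (hPn y)
    have hn : ∀ y : O, (LinearMap.BilinForm.restrict dot (LinearMap.BilinForm.orthogonal dot (P y))).Nondegenerate := fun y => by
      refine LinearMap.BilinForm.nondegenerate_restrict_of_disjoint_orthogonal _ dot_refl ?_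
      rw [Submodule.disjoint_def]
      intro z hz hz'
      refine dot_nondeg.1 z fun w => ?_
      obtain ⟨p, hp, q, hq, rfl⟩ := mem_sup.1 ((hc y).sup_eq_top ▸ Submodule.mem_top :
        w ∈ P y ⊔ LinearMap.BilinForm.orthogonal dot (P y))
      rw [map_add, dot_comm z p, hz p hp, dot_comm z q, hz' q hq, add_zero]
    have hdim : ∀ y : O, Module.finrank F (LinearMap.BilinForm.orthogonal dot (P y)) = 2 * (r - 1) := fun y => by
      have := Submodule.finrank_add_eq_of_isCompl (hc y)
      rw [hPd, Module.finrank_fin_fun] at this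
      omega
    obtain ⟨e₀, he₀⟩ := exists_isometry_sympBilin (alt_on _ (h1P x₀)) (hn x₀) (m := r - 1) (hdim x₀)
    obtain ⟨e₁, he₁⟩ := exists_isometry_sympBilin (alt_on _ (h1P x)) (hn x) (m := r - 1) (hdim x)
    let eH := e₀.trans e₁.symm
    have heH : ∀ a b, dot (eH a : Fin s → F) (eH b) = dot (a : Fin s → F) (b : Fin s → F) := fun a b => by
      have h1 := he₁ (eH a) (eH b)
      have h2 := he₀ a b
      simp only [eH, LinearEquiv.trans_apply, LinearEquiv.apply_symm_apply] at h1
      exact h1.symm.trans h2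
    let bP : ∀ y : O, Module.Basis (Fin 2) F (P y) := fun y => Module.Basis.span (hli y)
    let eP := (bP x₀).equiv (bP x) (Equiv.refl _)
    have hbP : ∀ (y : O) i, ((bP y i : P y) : Fin s → F) = ![(1 : Fin s → F), y.1] i := fun y i =>
      congrArg Subtype.val (Module.Basis.span_apply (hli y) i)
    have hePv : ∀ i, ((eP (bP x₀ i) : P x) : Fin s → F) = ![(1 : Fin s → F), x.1] i := fun i => by
      rw [show eP (bP x₀ i) = bP x i by simp [eP], hbP]
    have hgram : ∀ i j, dot (![(1 : Fin s → F), x.1] i) (![(1 : Fin s → F), x.1] j) =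
        dot (![(1 : Fin s → F), x₀.1] i) (![(1 : Fin s → F), x₀.1] j) := by
      intro i j
      fin_cases i <;> fin_cases j <;> simp [h11, hO, dot_comm 1 x.1, dot_comm 1 x₀.1, x.2, x₀.2]
    have hePB : ∀ a b, dot (eP a : Fin s → F) (eP b) = dot (a : Fin s → F) (b : Fin s → F) := by
      intro a b
      rw [← (bP x₀).sum_repr a, ← (bP x₀).sum_repr b]
      simp only [map_sum, map_smul, Submodule.coe_sum, Submodule.coe_smul, LinearMap.sum_apply, LinearMap.smul_apply,
        hePv, hbP, hgram]
    let e : (Fin s → F) ≃ₗ[F] (Fin s → F) := (Submodule.prodEquivOfIsCompl _ _ (hc x₀)).symm ≪≫ₗ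
      (eP.prodCongr eH) ≪≫ₗ Submodule.prodEquivOfIsCompl _ _ (hc x)
    have he : ∀ (p : P x₀) (h : LinearMap.BilinForm.orthogonal dot (P x₀)),
        e (p + h) = (eP p : Fin s → F) + (eH h : Fin s → F) := fun p h => by
      have : (Submodule.prodEquivOfIsCompl _ _ (hc x₀)).symm ((p : Fin s → F) + (h : Fin s → F)) = (p, h) := by
        rw [LinearEquiv.symm_apply_eq]; simp
      simp [e, this]
    refine ⟨⟨e, fun a b => ?_⟩, ?_⟩
    · obtain ⟨p, hp, q, hq, rfl⟩ := mem_sup.1 ((hc x₀).sup_eq_top ▸ Submodule.mem_top :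
        a ∈ P x₀ ⊔ LinearMap.BilinForm.orthogonal dot (P x₀))
      obtain ⟨p', hp', q', hq', rfl⟩ := mem_sup.1 ((hc x₀).sup_eq_top ▸ Submodule.mem_top :
        b ∈ P x₀ ⊔ LinearMap.BilinForm.orthogonal dot (P x₀))
      rw [he ⟨p, hp⟩ ⟨q, hq⟩, he ⟨p', hp'⟩ ⟨q', hq'⟩]
      simp only [map_add, LinearMap.add_apply, hePB, heH]
      rw [(eH ⟨q', hq'⟩).2 _ (eP ⟨p, hp⟩).2, dot_comm (eH ⟨q, hq⟩ : Fin s → F), (eH ⟨q, hq⟩).2 _ (eP ⟨p', hp'⟩).2,
        hq' p hp, dot_comm q p', hq p' hp']
    · show e x₀.1 = x.1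
      have := he ⟨x₀.1, hxP x₀⟩ 0
      rw [map_zero, ZeroMemClass.coe_zero, add_zero, ZeroMemClass.coe_zero, add_zero] at this
      rw [this, show (⟨x₀.1, hxP x₀⟩ : P x₀) = bP x₀ 1 from Subtype.ext (hbP x₀ 1).symm, hePv]
      rfl
  choose g hg using htrans
  have hmem : ∀ a : BilinIsom dot, dot (a.1 x₀.1) 1 = 1 := fun a => by
    rw [show dot (a.1 x₀.1) 1 = dot (a.1 x₀.1) (a.1 1) by rw [fix_one], BilinIsom.map_form, x₀.2]
  have h1 : Nat.card (BilinIsom dot) = Nat.card O * Nat.card (pointFixer dot (P x₀)) := by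
    rw [← Nat.card_prod]
    refine (Nat.card_congr (Equiv.ofBijective (fun z : O × pointFixer dot (P x₀) => g z.1 * z.2.1) ⟨?_, ?_⟩)).symm
    · rintro ⟨x, a⟩ ⟨y, b⟩ h
      have e1 := congrArg (fun t : BilinIsom dot => t.1 x₀.1) h
      simp only [BilinIsom.mul_apply', a.2 _ (hxP x₀), b.2 _ (hxP x₀), hg] at e1
      obtain rfl : x = y := Subtype.ext e1
      exact Prod.ext rfl (Subtype.ext (mul_left_cancel h))
    · intro a
      let x : O := ⟨a.1 x₀.1, hmem a⟩
      refine ⟨⟨x, ⟨(g x)⁻¹ * a, fun p hp => ?_⟩⟩, mul_inv_cancel_left _ _⟩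
      obtain ⟨c, rfl⟩ := (mem_span_range_iff_exists_fun F).1 hp
      simp only [Fin.sum_univ_two, Matrix.cons_val_zero, Matrix.cons_val_one, map_add, map_smul, BilinIsom.mul_apply',
        fix_one]
      rw [show a.1 x₀.1 = (g x).1 x₀.1 from (hg x).symm, BilinIsom.inv_apply_self]
  have h2 : Nat.card O = Nat.card F ^ (s - 1) := by
    have hne : (LinearMap.BilinForm.flip dot) 1 ≠ 0 := fun h => by
      have := LinearMap.congr_fun h x₀.1
      change dot x₀.1 1 = 0 at this
      rw [x₀.2] at this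
      exact one_ne_zero this
    have hker := ((LinearMap.BilinForm.flip dot) 1).finrank_range_add_finrank_ker
    rw [LinearMap.range_eq_top.2 (LinearMap.surjective hne), finrank_top, Module.finrank_self, Module.finrank_fin_fun] at hker
    rw [show s - 1 = Module.finrank F (LinearMap.ker ((LinearMap.BilinForm.flip dot) 1)) by omega,
      ← Module.natCard_eq_pow_finrank]
    refine Nat.card_congr ((Equiv.subRight x₀.1).subtypeEquiv fun x => ?_)
    show dot x 1 = 1 ↔ dot (x - x₀.1) 1 = 0
    rw [map_sub, LinearMap.sub_apply, x₀.2, sub_eq_zero]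
  rw [h1, h2, card_complement _ (h1P x₀) (hPn x₀) (r := (s - 2) / 2) (by rw [hPd]; omega)]

theorem isoCount_one (hs0 : 0 < s) : isoCount (1 : Matrix (Fin s) (Fin s) F) = oneCard (Nat.card F) s := by
  rw [isoCount_eq_card isUnit_one, oneCard]
  split_ifs with h
  · exact card_odd h
  · exact card_even (Nat.not_odd_iff_even.1 h) hs0

/-- Isometry counts of alternating matrices. -/
theorem isoCount_alt {r : ℕ} {S : Matrix (Fin s) (Fin s) F} (hS : Sᵀ = S) (hu : IsUnit S) (hd : ∀ i, S i i = 0)
    (hr : s = 2 * r) : isoCount S = spCard (Nat.card F) r := by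
  rw [isoCount_eq_card hu]
  exact card_bilinIsom_symplectic r ((isAlt_iff S hS).2 hd) (toBilin_nondeg hu) (by rw [Module.finrank_fin_fun, hr])

theorem isoCount_nonalt {S : Matrix (Fin s) (Fin s) F} (hS : Sᵀ = S) (hu : IsUnit S) (hd : ∃ i, S i i ≠ 0) :
    isoCount S = oneCard (Nat.card F) s := by
  rw [(cong_one hS hu hd).isoCount_eq, isoCount_one (by obtain ⟨i, -⟩ := hd; exact lt_of_le_of_lt (Nat.zero_le _) i.isLt)]

end Cfsg.Lib.SympInvol
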