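import Cfsg.Agent.Known.SympInvol.Classes
import Mathlib

/-! Classes and centralisers of involutions of `Sp_2m(q)`, `q` even. -/

set_option autoImplicit false
set_option linter.style.haveILetI false

open Matrix Submodule Cfsg.Lib.Classical

namespace Cfsg.Lib.SympInvol

universe u

variable {F : Type u} [Field F] [Fintype F] [CharP F 2] {m : ℕ}

local notation "Big" => Matrix (Fin m ⊕ Fin m) (Fin m ⊕ Fin m) F
local notation "Bs" => sympBilin m F

/-- The description of an involution by a frame and a matrix. -/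
def IsData (A : Matrix.symplecticGroup (Fin m) F) {s : ℕ} (f : Fin s → (Fin m ⊕ Fin m → F)) (S : Matrix (Fin s) (Fin s) F) : Prop :=
  IsoFrames.IsFrame Bs f ∧ Sᵀ = S ∧ IsUnit S ∧ ∀ x, (A : Big) *ᵥ x = x + nil Bs f S x

/-- The alternating type. -/
def IsAltType (A : Matrix.symplecticGroup (Fin m) F) : Prop :=
  ∀ v : Fin m ⊕ Fin m → F, Cfsg.sympForm m F v ((A : Big) *ᵥ v) = 0

theorem lin_eq {A : Matrix.symplecticGroup (Fin m) F} {s : ℕ} {f : Fin s → (Fin m ⊕ Fin m → F)}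
    {S : Matrix (Fin s) (Fin s) F} (h : IsData A f S) :
    Matrix.toLin' ((A : Big) - 1) = nil Bs f S := LinearMap.ext fun x => by
  rw [Matrix.toLin'_apply, Matrix.sub_mulVec, Matrix.one_mulVec, h.2.2.2, add_sub_cancel_left]

theorem exists_data (A : Matrix.symplecticGroup (Fin m) F) (hA : A ^ 2 = 1) {s : ℕ} (hs : ((A : Big) - 1).rank = s) :
    ∃ (f : Fin s → (Fin m ⊕ Fin m → F)) (S : Matrix (Fin s) (Fin s) F), IsData A f S := by
  have h1 : Module.finrank F (LinearMap.range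
      (((sympEquiv m F A).1 : (Fin m ⊕ Fin m → F) →ₗ[F] (Fin m ⊕ Fin m → F)) - LinearMap.id)) = s := by
    rw [← hs, Matrix.rank]
    refine congrArg (fun L : (Fin m ⊕ Fin m → F) →ₗ[F] (Fin m ⊕ Fin m → F) => Module.finrank F (LinearMap.range L))
      (LinearMap.ext fun x => ?_)
    rw [Matrix.mulVecLin_apply, Matrix.sub_mulVec, Matrix.one_mulVec]
    rfl
  subst h1
  obtain ⟨f, S, h2, h3, h4, h5⟩ := exists_frame (sympBilin_isAlt m F) (sympBilin_nondegenerate m F) (sympEquiv m F A)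
    (by rw [← map_pow, hA, map_one])
  exact ⟨f, S, h2, h3, h4, fun x => h5 x⟩

theorem rank_eq {A : Matrix.symplecticGroup (Fin m) F} {s : ℕ} {f : Fin s → (Fin m ⊕ Fin m → F)}
    {S : Matrix (Fin s) (Fin s) F} (h : IsData A f S) : ((A : Big) - 1).rank = s := by
  rw [Matrix.rank, ← Matrix.toLin'_apply', lin_eq h,
    range_nil (sympBilin_nondegenerate m F) h.1.1 h.2.2.1, finrank_span_eq_card h.1.1, Fintype.card_fin]

theorem alt_iff {A : Matrix.symplecticGroup (Fin m) F} {s : ℕ} {f : Fin s → (Fin m ⊕ Fin m → F)}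
    {S : Matrix (Fin s) (Fin s) F} (h : IsData A f S) : IsAltType A ↔ ∀ i, S i i = 0 := by
  have key : ∀ v, Cfsg.sympForm m F v ((A : Big) *ᵥ v) = ∑ i, S i i * (Bs (f i) v * Bs (f i) v) := fun v => by
    rw [← sympBilin_eq_sympForm, h.2.2.2, map_add, sympBilin_isAlt m F v, zero_add,
      form_self (sympBilin_isAlt m F) f h.2.1]
  refine ⟨fun ha i => ?_, fun hd v => by rw [key]; exact Finset.sum_eq_zero fun i _ => by rw [hd, zero_mul]⟩
  obtain ⟨x, hx⟩ := exists_dual (sympBilin_nondegenerate m F) h.1.1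
  have := (key (x i)).symm.trans (ha (x i))
  simpa [hx] using this

theorem change_frame {s : ℕ} {f : Fin s → (Fin m ⊕ Fin m → F)} (hf : IsoFrames.IsFrame Bs f)
    {A : Matrix (Fin s) (Fin s) F} (hA : IsUnit A) : IsoFrames.IsFrame Bs (fun i => ∑ k, A k i • f k) := by
  refine ⟨?_, fun i j => by simp [map_sum, hf.2]⟩
  rw [Fintype.linearIndependent_iff]
  intro c hc i
  have h1 : ∑ k, (A *ᵥ c) k • f k = 0 := by
    rw [← hc]
    simp only [Matrix.mulVec, dotProduct, Finset.sum_smul, Finset.smul_sum, smul_smul]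
    rw [Finset.sum_comm]
    exact Finset.sum_congr rfl fun a _ => Finset.sum_congr rfl fun b _ => by rw [mul_comm]
  have h2 : A *ᵥ c = A *ᵥ 0 := by
    rw [mulVec_zero]; exact funext fun k => Fintype.linearIndependent_iff.1 hf.1 _ h1 k
  exact congrFun (Matrix.mulVec_injective_iff_isUnit.2 hA h2) i

theorem conj_of_cong {A A' : Matrix.symplecticGroup (Fin m) F} {s : ℕ} {f f' : Fin s → (Fin m ⊕ Fin m → F)}
    {S T : Matrix (Fin s) (Fin s) F} (h : IsData A f S) (h' : IsData A' f' T) (hc : Cong S T) : IsConj A A' := by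
  obtain ⟨U, hU, rfl⟩ := hc
  obtain ⟨g, hg⟩ := IsoFrames.transitive (sympBilin_isAlt m F) (sympBilin_nondegenerate m F) h.1 (change_frame h'.1 hU)
  refine isConj_iff.2 ⟨(sympEquiv m F).symm g, ?_⟩
  rw [mul_inv_eq_iff_eq_mul]
  apply (sympEquiv m F).injective
  rw [map_mul, map_mul, MulEquiv.apply_symm_apply]
  refine BilinIsom.ext' fun x => ?_
  simp only [BilinIsom.mul_apply', sympEquiv_apply, h.2.2.2, h'.2.2.2, map_add]
  rw [← nil_change f' S U, ← hg, nil_act]

theorem rank_conj {A A' : Matrix.symplecticGroup (Fin m) F} (h : IsConj A A') :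
    ((A : Big) - 1).rank = ((A' : Big) - 1).rank := by
  obtain ⟨g, hg⟩ := isConj_iff.1 h
  have e : (g : Big) * ((A : Big) - 1) = ((A' : Big) - 1) * (g : Big) := by
    rw [mul_sub, sub_mul, mul_one, one_mul, ← Submonoid.coe_mul, ← Submonoid.coe_mul, mul_inv_eq_iff_eq_mul.1 hg]
  have hdet : IsUnit (g : Big).det := SymplecticGroup.symplectic_det g.2
  rw [← Matrix.rank_mul_eq_right_of_isUnit_det (g : Big) ((A : Big) - 1) hdet, e,
    Matrix.rank_mul_eq_left_of_isUnit_det _ _ hdet]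

theorem altType_conj {A A' : Matrix.symplecticGroup (Fin m) F} (h : IsConj A A') (ha : IsAltType A) : IsAltType A' := by
  obtain ⟨g, rfl⟩ := isConj_iff.1 h
  intro v
  obtain ⟨w, rfl⟩ : ∃ w, (g : Big) *ᵥ w = v := ⟨((g⁻¹ : Matrix.symplecticGroup (Fin m) F) : Big) *ᵥ v, by
    rw [mulVec_mulVec, ← Submonoid.coe_mul, mul_inv_cancel, Submonoid.coe_one, one_mulVec]⟩
  rw [mulVec_mulVec, ← Submonoid.coe_mul, inv_mul_cancel_right, Submonoid.coe_mul, ← mulVec_mulVec, ← sympBilin_eq_sympForm,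
    (mem_symplectic_iff_form _).1 g.2, sympBilin_eq_sympForm]
  exact ha w

theorem isConj_iff_invariants {A A' : Matrix.symplecticGroup (Fin m) F} (hA : A ^ 2 = 1) (hA' : A' ^ 2 = 1) :
    IsConj A A' ↔ ((A : Big) - 1).rank = ((A' : Big) - 1).rank ∧ (IsAltType A ↔ IsAltType A') := by
  refine ⟨fun h => ⟨rank_conj h, altType_conj h, altType_conj h.symm⟩, fun ⟨hr, hal⟩ => ?_⟩
  obtain ⟨f, S, hd⟩ := exists_data A hA rfl
  obtain ⟨f', T, hd'⟩ := exists_data A' hA' hr.symm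
  rw [alt_iff hd, alt_iff hd'] at hal
  refine conj_of_cong hd hd' ?_
  by_cases halt : ∀ i, S i i = 0
  · exact cong_alt hd.2.1 hd.2.2.1 halt hd'.2.1 hd'.2.2.1 (hal.1 halt)
  · obtain ⟨i, hi⟩ := not_forall.1 halt
    obtain ⟨j, hj⟩ := not_forall.1 (fun h => halt (hal.2 h))
    obtain ⟨U, hU, e⟩ := cong_one hd.2.1 hd.2.2.1 ⟨i, hi⟩
    obtain ⟨W, hW, e'⟩ := cong_one hd'.2.1 hd'.2.2.1 ⟨j, hj⟩
    obtain ⟨W, rfl⟩ := hW
    refine ⟨((W⁻¹ : (Matrix _ _ F)ˣ) : Matrix _ _ F) * U, (W⁻¹).isUnit.mul hU, ?_⟩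
    rw [transpose_mul, show ((W⁻¹ : (Matrix _ _ F)ˣ) : Matrix _ _ F) * U * S * (Uᵀ * ((W⁻¹ : (Matrix _ _ F)ˣ) : Matrix _ _ F)ᵀ) =
      ((W⁻¹ : (Matrix _ _ F)ˣ) : Matrix _ _ F) * (U * S * Uᵀ) * ((W⁻¹ : (Matrix _ _ F)ˣ) : Matrix _ _ F)ᵀ by
        simp only [mul_assoc], e, ← e']
    simp only [mul_assoc, Units.inv_mul_cancel_left, ← transpose_mul, Units.inv_mul, transpose_one, mul_one]

theorem alt_even {A : Matrix.symplecticGroup (Fin m) F} {s : ℕ} {f : Fin s → (Fin m ⊕ Fin m → F)}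
    {S : Matrix (Fin s) (Fin s) F} (h : IsData A f S) (ha : IsAltType A) : Even s := by
  have := even_finrank_of_symplectic ((isAlt_iff S h.2.1).2 ((alt_iff h).1 ha)) (toBilin_nondeg h.2.2.1)
  rwa [Module.finrank_fin_fun] at this

theorem le_half {A : Matrix.symplecticGroup (Fin m) F} {s : ℕ} {f : Fin s → (Fin m ⊕ Fin m → F)}
    {S : Matrix (Fin s) (Fin s) F} (h : IsData A f S) : s ≤ m := by
  have := card_frames_pos (sympBilin_isAlt m F) (sympBilin_nondegenerate m F) s h.1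
  rw [finrank_sympSpace] at this
  omega

theorem exists_of_matrix {s : ℕ} (hs : s ≤ m) {S : Matrix (Fin s) (Fin s) F} (hS : Sᵀ = S) (hu : IsUnit S) :
    ∃ (A : Matrix.symplecticGroup (Fin m) F) (f : Fin s → (Fin m ⊕ Fin m → F)), A ^ 2 = 1 ∧ IsData A f S := by
  let f : Fin s → (Fin m ⊕ Fin m → F) := fun i => Pi.single (Sum.inl (Fin.castLE hs i)) 1
  have hf : IsoFrames.IsFrame Bs f := by
    refine ⟨(Pi.linearIndependent_single_one (Fin m ⊕ Fin m) F).comp (fun i => Sum.inl (Fin.castLE hs i))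
      (Sum.inl_injective.comp (Fin.castLE_injective hs)), fun i j => ?_⟩
    rw [sympBilin_eq_sum]
    simp [f]
  obtain ⟨g, hg, hg2⟩ := exists_invol (sympBilin_isAlt m F) hf hS
  refine ⟨(sympEquiv m F).symm g, f, by rw [← map_pow, hg2, map_one], hf, hS, hu, fun x => ?_⟩
  rw [sympEquiv_symm_mulVec, hg]

theorem order_two_iff (A : Matrix.symplecticGroup (Fin m) F) : orderOf A = 2 ↔ A ^ 2 = 1 ∧ ((A : Big) - 1).rank ≠ 0 := by
  haveI : Fact (Nat.Prime 2) := ⟨Nat.prime_two⟩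
  rw [orderOf_eq_prime_iff]
  refine and_congr_right fun _ => not_congr ⟨fun h => ?_, fun h => ?_⟩
  · rw [h, Submonoid.coe_one, sub_self, Matrix.rank_zero]
  · refine Subtype.ext (sub_eq_zero.1 ?_)
    rw [Matrix.rank, Submodule.finrank_eq_zero, LinearMap.range_eq_bot] at h
    exact Matrix.ext_of_mulVec_single fun i => by
      rw [Submonoid.coe_one, ← Matrix.mulVecLin_apply, h, LinearMap.zero_apply, Matrix.zero_mulVec]

theorem card_involution_classes :
    Nat.card {C : ConjClasses ↥(Matrix.symplecticGroup (Fin m) F) // ∃ g : Matrix.symplecticGroup (Fin m) F,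
      ConjClasses.mk g = C ∧ orderOf g = 2} = m + m / 2 := by
  classical
  have hone : ∀ i : Fin m, ∃ (A : Matrix.symplecticGroup (Fin m) F) (f : Fin ((i : ℕ) + 1) → (Fin m ⊕ Fin m → F)),
      A ^ 2 = 1 ∧ IsData A f 1 := fun i => exists_of_matrix i.isLt (transpose_one) isUnit_one
  let J : ∀ r : ℕ, Matrix (Fin (r + r)) (Fin (r + r)) F := fun r =>
    Matrix.reindex finSumFinEquiv finSumFinEquiv (Matrix.fromBlocks 0 1 1 0)
  have hJ : ∀ r, (J r)ᵀ = J r ∧ IsUnit (J r) ∧ ∀ i, J r i i = 0 := fun r => by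
    refine ⟨?_, ?_, fun i => ?_⟩
    · simp only [J, Matrix.transpose_reindex, Matrix.fromBlocks_transpose, transpose_zero, transpose_one]
    · refine IsUnit.of_mul_eq_one (J r) ?_
      simp only [J, Matrix.reindex_apply, Matrix.submatrix_mul_equiv, Matrix.fromBlocks_multiply, mul_zero, zero_mul,
        one_mul, zero_add, add_zero, Matrix.fromBlocks_one, Matrix.submatrix_one_equiv]
    · obtain ⟨x, rfl⟩ := finSumFinEquiv.surjective i
      simp only [J, Matrix.reindex_apply, Matrix.submatrix_apply, Equiv.symm_apply_apply]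
      cases x <;> rfl
  have halt : ∀ r : Fin (m / 2), ∃ (A : Matrix.symplecticGroup (Fin m) F)
      (f : Fin (((r : ℕ) + 1) + ((r : ℕ) + 1)) → (Fin m ⊕ Fin m → F)), A ^ 2 = 1 ∧ IsData A f (J ((r : ℕ) + 1)) :=
    fun r => exists_of_matrix (by have := r.isLt; omega) (hJ _).1 (hJ _).2.1
  choose A₁ f₁ hA₁ hd₁ using hone
  choose A₂ f₂ hA₂ hd₂ using halt
  have hn₁ : ∀ i, ¬ IsAltType (A₁ i) := fun i h => by
    have := (alt_iff (hd₁ i)).1 h ⟨0, by omega⟩
    simp at this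
  have ha₂ : ∀ r, IsAltType (A₂ r) := fun r => (alt_iff (hd₂ r)).2 (hJ _).2.2
  let A : Fin m ⊕ Fin (m / 2) → Matrix.symplecticGroup (Fin m) F := Sum.elim A₁ A₂
  have hord : ∀ z, orderOf (A z) = 2 := fun z => by
    rcases z with i | r
    · exact (order_two_iff _).2 ⟨hA₁ i, by rw [show A (Sum.inl i) = A₁ i from rfl, rank_eq (hd₁ i)]; omega⟩
    · exact (order_two_iff _).2 ⟨hA₂ r, by rw [show A (Sum.inr r) = A₂ r from rfl, rank_eq (hd₂ r)]; omega⟩
  rw [← Nat.card_congr (Equiv.ofBijective (fun z => (⟨ConjClasses.mk (A z), A z, rfl, hord z⟩ :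
    {C : ConjClasses ↥(Matrix.symplecticGroup (Fin m) F) // ∃ g, ConjClasses.mk g = C ∧ orderOf g = 2})) ⟨?_, ?_⟩)]
  · simp
  · intro z z' h
    have hc : IsConj (A z) (A z') := ConjClasses.mk_eq_mk_iff_isConj.1 (congrArg Subtype.val h)
    have hr := rank_conj hc
    rcases z with i | r <;> rcases z' with j | k
    · simp only [A, Sum.elim_inl, rank_eq (hd₁ i), rank_eq (hd₁ j)] at hr
      rw [show i = j from Fin.ext (by omega)]
    · exact absurd (altType_conj hc.symm (ha₂ k)) (hn₁ i)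
    · exact absurd (altType_conj hc (ha₂ r)) (hn₁ j)
    · simp only [A, Sum.elim_inr, rank_eq (hd₂ r), rank_eq (hd₂ k)] at hr
      rw [show r = k from Fin.ext (by omega)]
  · rintro ⟨C, g, rfl, hg⟩
    obtain ⟨hg2, hg0⟩ := (order_two_iff g).1 hg
    obtain ⟨f, S, hd⟩ := exists_data g hg2 rfl
    have hle := le_half hd
    by_cases ha : IsAltType g
    · obtain ⟨r, hr⟩ := alt_even hd ha
      refine ⟨Sum.inr ⟨r - 1, by omega⟩, Subtype.ext (ConjClasses.mk_eq_mk_iff_isConj.2 ?_)⟩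
      refine (isConj_iff_invariants (hA₂ _) hg2).2 ⟨?_, iff_of_true (ha₂ _) ha⟩
      rw [rank_eq (hd₂ _)]
      show r - 1 + 1 + (r - 1 + 1) = _
      omega
    · refine ⟨Sum.inl ⟨((g : Big) - 1).rank - 1, by omega⟩, Subtype.ext (ConjClasses.mk_eq_mk_iff_isConj.2 ?_)⟩
      refine (isConj_iff_invariants (hA₁ _) hg2).2 ⟨?_, iff_of_false (hn₁ _) ha⟩
      rw [rank_eq (hd₁ _)]
      show ((g : Big) - 1).rank - 1 + 1 = _
      omega

theorem card_centralizer_eq {A : Matrix.symplecticGroup (Fin m) F} {s : ℕ} {f : Fin s → (Fin m ⊕ Fin m → F)}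
    {S : Matrix (Fin s) (Fin s) F} (h : IsData A f S) :
    Nat.card ↥(Subgroup.centralizer ({A} : Set ↥(Matrix.symplecticGroup (Fin m) F))) =
      Fintype.card F ^ (s * (s + 1) / 2 + 2 * s * (m - s)) * spCard (Fintype.card F) (m - s) * isoCount S := by
  have hc := card_centralizer (sympBilin_isAlt m F) (sympBilin_nondegenerate m F) h.1 h.2.2.1 (finrank_sympSpace m F)
    (sympEquiv m F A) fun x => h.2.2.2 x
  have e : Nat.card ↥(Subgroup.centralizer ({A} : Set ↥(Matrix.symplecticGroup (Fin m) F))) =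
      Nat.card ↥(Subgroup.centralizer ({sympEquiv m F A} : Set (BilinIsom Bs))) := by
    refine Nat.card_congr ((sympEquiv m F).toEquiv.subtypeEquiv fun g => ?_)
    rw [Subgroup.mem_centralizer_singleton_iff, Subgroup.mem_centralizer_singleton_iff]
    show _ ↔ sympEquiv m F g * sympEquiv m F A = sympEquiv m F A * sympEquiv m F g
    rw [← map_mul, ← map_mul, (sympEquiv m F).injective.eq_iff]
  have hs := le_half h
  have hid := IsoFrames.prod_identity (Fintype.card F) s (m - s)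
  rw [Nat.sub_add_cancel hs] at hid
  rw [← e, ← Nat.card_congr (sympEquiv m F).toEquiv, card_symplecticGroup, Nat.card_eq_fintype_card (α := F), ← hid] at hc
  refine Nat.eq_of_mul_eq_mul_right (IsoFrames.prod_pos Fintype.one_lt_card hs) (hc.trans ?_)
  rw [spCard, pow_add (Fintype.card F) _ ((m - s) ^ 2)]
  ring

theorem spCard_fin (q r : ℕ) : spCard q r = q ^ (r ^ 2) * ∏ i : Fin r, (q ^ (2 * ((i : ℕ) + 1)) - 1) := by
  rw [spCard, ← Fin.prod_univ_eq_prod_range (fun i => q ^ (2 * (i + 1)) - 1)]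

theorem exp_eq {m s : ℕ} (hs : s ≤ m) :
    s * (s + 1) / 2 + 2 * s * (m - s) = 2 * m * s - (3 * s ^ 2 - s) / 2 := by
  obtain ⟨j, rfl⟩ : ∃ j, m = s + j := ⟨m - s, by omega⟩
  rw [Nat.add_sub_cancel_left, mul_assoc 2 (s + j) s, Nat.add_mul, mul_comm j s, mul_assoc 2 s j]
  have h1 : s ≤ s * s := Nat.le_mul_self s
  rcases Nat.even_or_odd s with ⟨r, hr⟩ | ⟨r, hr⟩
  · subst hr
    rw [show (r + r) * (r + r + 1) = 2 * (2 * (r * r) + r) by ring, show (r + r) * (r + r) = 4 * (r * r) by ring,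
      show 3 * (r + r) ^ 2 = 12 * (r * r) by ring]
    have : r ≤ r * r := Nat.le_mul_self r
    omega
  · subst hr
    rw [show (2 * r + 1) * (2 * r + 1 + 1) = 2 * (2 * (r * r) + 3 * r + 1) by ring,
      show (2 * r + 1) * (2 * r + 1) = 4 * (r * r) + 4 * r + 1 by ring,
      show 3 * (2 * r + 1) ^ 2 = 12 * (r * r) + 12 * r + 3 by ring]
    omega

end Cfsg.Lib.SympInvol
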